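import Groth.Agent.Lib.GrTilde.Mul
import Groth.Agent.Lib.Ample.ProjMap

/-! # Twists of projective space are invertible -/

set_option autoImplicit false

universe u

open CategoryTheory AlgebraicGeometry MvPolynomial

namespace GrothLib.CodimExt27

theorem isInvertible_twistProj (n : ℕ) (R : Type u) [CommRing R] (d : ℤ) :
    PicF.IsInvertible (Twist.twistProjSpace n R d) :=
  GrTilde.isInvertible_twist (𝒜 := CohB1.polyGrading n R) (fun p => by
    have hp : p ∈ ⨆ i : Fin (n + 1), Proj.basicOpen (CohB1.polyGrading n R) (X i) := by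
      rw [Ample.ProjMap.iSup_basicOpen_X]; trivial
    obtain ⟨i, hi⟩ := TopologicalSpace.Opens.mem_iSup.1 hp
    exact ⟨X i, isHomogeneous_X R i, hi⟩) d

end GrothLib.CodimExt27
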