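import Groth.Agent.Lib.DepthExt20.Basic
import Groth.Agent.Lib.AffDom.LocalDim
import Groth.Agent.Lib.NoethTop.KrullDim
import Groth.Agent.Lib.Dim.Scheme
import Groth.Agent.Lib.LocFree8.Basic
import Groth.Agent.Lib.Euler.Coh
import Groth.Agent.Lib.RamSam.GrFree
import Groth.Agent.Lib.QuasiFlat.Basic
import Groth.Agent.Lib.Depth.CM
import Groth.Agent.Lib.QCoh.ClosedImmersion
import Groth.Agent.Lib.CMFree.FiniteFlat

/-! # Vanishing of local Ext from codimension on a regular scheme over a field -/

set_option autoImplicit false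
set_option linter.style.haveILetI false

universe u

open CategoryTheory CategoryTheory.Limits AlgebraicGeometry TopologicalSpace

namespace GrothLib.CodimExt27

variable {k : Type u} [Field k] {P : Scheme.{u}}

/-- The local dimension of a pure-dimensional scheme locally of finite type over a field. -/
theorem localDim_eq_of_pure (f : P ⟶ Spec (CommRingCat.of k)) [LocallyOfFiniteType f] {n : ℕ}
    (hP : ∀ Z : Set ↥P, Z ∈ irreducibleComponents ↥P → topologicalKrullDim ↥Z = (n : WithBot ℕ∞)) (x : P) :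
    FlatMor.localDim P x = (n : WithBot ℕ∞) := by
  refine le_antisymm ((NoethTop.localDim_le_dim x).trans (NoethTop.dim_le_iff.2 fun l => ?_)) (le_iInf fun U => ?_)
  · obtain ⟨Z, hZ, hsub⟩ := exists_mem_irreducibleComponents_subset_of_isIrreducible _ l.last.isIrreducible
    exact (NoethTop.length_le_dim_subset Z l hsub).trans (hP Z hZ).le
  · have hZ := irreducibleComponent_mem_irreducibleComponents x
    obtain ⟨m, hm, hmU⟩ := Dim.exists_nat_dim_irreducible f isClosed_irreducibleComponent
      (isIrreducible_irreducibleComponent (x := x))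
    rw [← hP _ hZ, hm, ← hmU U.1 ⟨x, mem_irreducibleComponent, U.2⟩]
    exact (Topology.IsEmbedding.inclusion Set.inter_subset_right).isInducing.topologicalKrullDim_le

/-- Dimension of a point plus dimension of its local ring. -/
theorem ptDim_add_dim_stalk (f : P ⟶ Spec (CommRingCat.of k)) [LocallyOfFiniteType f] {n : ℕ}
    (hP : ∀ Z : Set ↥P, Z ∈ irreducibleComponents ↥P → topologicalKrullDim ↥Z = (n : WithBot ℕ∞)) (x : P) :
    AffDom.ptDim x + ringKrullDim (P.presheaf.stalk x) = (n : WithBot ℕ∞) := by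
  rw [← AffDom.localDim_eq f x, localDim_eq_of_pure f hP x]

/-- The depth of a locally free module at a point of a regular scheme. -/
theorem le_depth_stalk_of_finLocFree (f : P ⟶ Spec (CommRingCat.of k)) [LocallyOfFiniteType f] {n : ℕ}
    (hP : ∀ Z : Set ↥P, Z ∈ irreducibleComponents ↥P → topologicalKrullDim ↥Z = (n : WithBot ℕ∞))
    (hreg : ∀ p : P, IsRegularLocalRing (P.presheaf.stalk p))
    {E : P.Modules} (hE : FlatMod.IsFinLocFree E) (x : P) {q : ℕ}
    (hq : AffDom.ptDim x + (q : WithBot ℕ∞) ≤ (n : WithBot ℕ∞)) :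
    (q : ℕ∞) ≤ LocCoh.depth (P.presheaf.stalk x) (E.presheaf.stalk x) := by
  haveI := hreg x
  haveI := Euler.isQuasicoherent_of_isFinLocFree hE
  haveI : Module.Free (P.presheaf.stalk x) (E.presheaf.stalk x) := ((LocFree8.isFinLocFree_iff_fp_free E).1 hE).2 x
  haveI := QuasiFlat.finite_stalk E (Euler.isCoh_of_isFinLocFree hE) x
  refine RamSam.le_depth_of_free ?_ _
  obtain ⟨a, ha, -⟩ := AffDom.exists_dim_closure f x
  have ha' : AffDom.ptDim x = ((a : ℕ) : WithBot ℕ∞) := ha
  have hsum := ptDim_add_dim_stalk f hP x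
  obtain ⟨e, he⟩ := ENat.ne_top_iff_exists.1
    (Ideal.height_ne_top (I := IsLocalRing.maximalIdeal (P.presheaf.stalk x)) Ideal.IsPrime.ne_top')
  have hd : ringKrullDim (P.presheaf.stalk x) = ((e : ℕ) : WithBot ℕ∞) := by
    rw [← IsLocalRing.maximalIdeal_height_eq_ringKrullDim, ← he]; rfl
  rw [ha', hd] at hsum
  rw [ha'] at hq
  have h1 : a + e = n := by exact_mod_cast hsum
  have h2 : a + q ≤ n := by exact_mod_cast hq
  obtain ⟨rs, h4, h5, h6⟩ := CMFree.exists_weaklyRegular_of_isRegularLocalRing (P.presheaf.stalk x)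
  haveI := CMFree.isCohenMacaulayLocalRing_of_weaklyRegular (P.presheaf.stalk x) rs h4 h5 h6.ge
  have hCM := LocCoh.IsCohenMacaulayLocalRing.supportDim_eq_depth (R := P.presheaf.stalk x)
  rw [Module.supportDim_self_eq_ringKrullDim, hd] at hCM
  have h3 : LocCoh.depth (P.presheaf.stalk x) (P.presheaf.stalk x) = (e : ℕ∞) := (WithBot.coe_injective hCM).symm
  rw [h3]
  exact_mod_cast (show q ≤ e by omega)

/-- The Ext sheaves of a closed subscheme of codimension at least `q` into a locally free module vanish below `q`. -/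
theorem isZero_extSh_push (f : P ⟶ Spec (CommRingCat.of k)) [LocallyOfFiniteType f] {n : ℕ}
    (hP : ∀ Z : Set ↥P, Z ∈ irreducibleComponents ↥P → topologicalKrullDim ↥Z = (n : WithBot ℕ∞))
    (hreg : ∀ p : P, IsRegularLocalRing (P.presheaf.stalk p))
    {X : Scheme.{u}} (ι' : X ⟶ P) [IsClosedImmersion ι'] {E : P.Modules} (hE : FlatMod.IsFinLocFree E) {q : ℕ}
    (hq : topologicalKrullDim ↥X + (q : WithBot ℕ∞) ≤ (n : WithBot ℕ∞))
    [ModSite.HasSheafHom (O := P.sheaf) ((Scheme.Modules.pushforward ι').obj (Coh.structureModule X))]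
    [HasInjectiveResolutions (ModSite.Mod P.sheaf)] {i : ℕ} (hi : i < q) :
    IsZero ((ModSite.extSh (O := P.sheaf) ((Scheme.Modules.pushforward ι').obj (Coh.structureModule X)) i).obj E) := by
  haveI := LocallyOfFiniteType.isLocallyNoetherian f
  haveI : ∀ M : P.Modules, ModSite.HasSheafHom (O := P.sheaf) M := fun M => SheafCoh.hasSheafHom _ _
  refine DepthExt20.isZero_extSh_of_le_depth (QCoh.pushUnit_isCoh ι') (Euler.isCoh_of_isFinLocFree hE)
    (fun x hx => le_depth_stalk_of_finLocFree f hP hreg hE x (le_trans ?_ hq)) hi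
  obtain ⟨y, rfl⟩ := QCoh.support_pushforward_subset_range ι' _ hx
  have hcl : AffDom.ptDim (ι' y) = AffDom.ptDim y := by
    refine (Dim.IsEmbedding.topologicalKrullDim_eq (f := fun z : ↥(closure ({y} : Set X)) => ι' z.1)
      (ι'.isEmbedding.comp Topology.IsEmbedding.subtypeVal) ?_).symm
    rw [show Set.range (fun z : ↥(closure ({y} : Set X)) => ι' z.1) = ι' '' closure {y} from
      (Set.range_comp ι' Subtype.val).trans (by rw [Subtype.range_coe])]
    rw [← ι'.isClosedEmbedding.closure_image_eq, Set.image_singleton]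
  rw [hcl]
  exact add_le_add (AffDom.ptDim_le y) le_rfl

end GrothLib.CodimExt27
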