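import Groth.Agent.S11919
import Groth.Agent.Lib.CodimExt27.Basic
import Groth.Agent.Lib.SpSeqBasic25.Stationary

/-! # Global Ext from the vanishing of local Ext -/

set_option autoImplicit false
set_option linter.style.haveILetI false

universe u

open CategoryTheory CategoryTheory.Limits AlgebraicGeometry ZeroObject

namespace GrothLib.CodimExt27

/-- If all graded pieces of a finite filtration vanish then the object is zero. -/
theorem isZero_abutment {C : Type*} [Category C] [Abelian C] {r₀ : ℤ} {E : CohomologicalSpectralSequence C r₀}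
    {H : ℤ → C} (a : SpSeq.Abutment E H) (r : ℤ) (hr : r₀ ≤ r) (n : ℤ) (hfin : a.IsFinite n)
    (hz : ∀ p q : ℤ, p + q = n → IsZero ((E.page r hr).X (p, q))) : IsZero (H n) := by
  have hp : ∀ p : ℤ, a.fil n (p + 1) = a.fil n p := by
    intro p
    refine SpSeqBasic25.eq_of_isZero_grPiece _ (a.anti n) p ?_
    have h := hz p (n - p) (by omega)
    have h' : IsZero ((E.page (a.rk (p, n - p)) (a.stat (p, n - p)).1).X (p, n - p)) := by
      rcases le_total r (a.rk (p, n - p)) with hle | hle
      · exact SpSeqBasic25.isZero_of_le E hr _ h _ _ hle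
      · exact h.of_iso (SpSeqBasic25.nonempty_iso_of_stationary E _ (a.stat (p, n - p)) r hr hle).some
    have h'' := h'.of_iso (a.β (p, n - p)).symm
    have e : ∀ m : ℤ, m = n → IsZero (SpSeq.grPiece (a.fil m) (a.anti m) p) →
        IsZero (SpSeq.grPiece (a.fil n) (a.anti n) p) := by
      rintro _ rfl hh
      exact hh
    exact e _ (by change p + (n - p) = n; omega) h''
  obtain ⟨⟨x, hx⟩, ⟨y, hy⟩⟩ := hfin
  have hconst : ∀ k : ℤ, a.fil n k = a.fil n x := by
    intro k
    induction k using Int.inductionOn' (b := x) with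
    | zero => rfl
    | succ m _ ih => rw [hp, ih]
    | pred m _ ih =>
      rw [← ih]
      conv_rhs => rw [show m = m - 1 + 1 by omega, hp]
  have htb : (⊤ : Subobject (H n)) = ⊥ := by
    exact hx.symm.trans ((hconst y).symm.trans hy)
  rw [IsZero.iff_id_eq_zero]
  have hi : IsIso (⊤ : Subobject (H n)).arrow := inferInstance
  have h0 : (⊤ : Subobject (H n)).arrow = 0 := by
    have : ∀ T : Subobject (H n), T = ⊥ → T.arrow = 0 := by rintro _ rfl; exact Subobject.bot_arrow
    exact this _ htb
  rw [← cancel_epi (⊤ : Subobject (H n)).arrow, h0, zero_comp, zero_comp]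

variable {X : Scheme.{u}} [HasExt.{u} X.Modules] (F G : X.Modules)
  [ModSite.HasSheafHom (O := X.sheaf) F] [HasInjectiveResolutions (ModSite.Mod X.sheaf)]

/-- Global Ext vanishes below the first nonzero local Ext. -/
theorem subsingleton_ext_of_isZero_extSh {p : ℕ}
    (h : ∀ j < p, IsZero ((ModSite.extSh (O := X.sheaf) F j).obj G)) (i : ℕ) (hi : i < p) :
    Subsingleton (Abelian.Ext F G i) := by
  obtain ⟨E, a, hfin, -, hE⟩ := Groth.Agent.S11919.result X F G
  have hz : IsZero (if 0 ≤ (i : ℤ) then AddCommGrpCat.of (Abelian.Ext F G (i : ℤ).toNat) else 0) := by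
    refine isZero_abutment a 2 le_rfl (i : ℤ) (hfin _) fun x y hxy => ?_
    obtain ⟨e⟩ := hE x y
    refine IsZero.of_iso ?_ e
    split_ifs with hc
    · have hy : y.toNat < p := by omega
      have hM := (SheafOfModules.toSheaf X.ringCatSheaf).map_isZero (h _ hy)
      exact @AddCommGrpCat.isZero_of_subsingleton _ (subsingleton_of_forall_eq 0 fun e => by
        rw [← Abelian.Ext.comp_mk₀_id e, hM.eq_of_src (𝟙 _) 0, Abelian.Ext.mk₀_zero, Abelian.Ext.comp_zero])
    · exact isZero_zero _
  rw [if_pos (Int.natCast_nonneg i)] at hz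
  exact AddCommGrpCat.subsingleton_of_isZero hz

end GrothLib.CodimExt27
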